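import Cfsg.Agent.H314.Rec.MFacts
import Cfsg.Agent.H314.Rec.NamesBig
import Cfsg.Agent.H889.Rec.Known
import Cfsg.Agent.H58.Rec.Outer
import Cfsg.Agent.S2085

/-!
# The Monster is recognizable by its element orders (helper314, row of S3484)
-/

set_option autoImplicit false
set_option maxRecDepth 100000

open Cfsg

namespace Cfsg.Agent.H314.RecM

open Subgroup
open Cfsg.Agent.OrdDiv Cfsg.Agent.H436
open Cfsg.Agent.H58.Rec
open Cfsg.Agent.H455.Isolated
open Cfsg.Agent.BpSpor.MBigModel (MG card_M zz)

universe u v

theorem lst_m : lstB [2, 3, 5, 7, 11, 13, 17, 19, 23, 29, 31, 41, 47, 59, 71] [59] 71 73 = [.m, .psl 2 59] := by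
  decide +kernel

theorem primes_M {r : ℕ} (hr : r.Prime) (h : r ∣ Nat.card MG) :
    r ∈ [2, 3, 5, 7, 11, 13, 17, 19, 23, 29, 31, 41, 47, 59, 71] := by
  rw [card_M] at h
  have e : 808017424794512875886459904961710757005754368000000000 = 2 ^ 46 * 3 ^ 20 * 5 ^ 9 * 7 ^ 6 * 11 ^ 2 * 13 ^ 3 *
      17 * 19 * 23 * 29 * 31 * 41 * 47 * 59 * 71 := by norm_num
  rw [e] at h
  have key : ∀ {q k : ℕ}, q.Prime → r ∣ q ^ k → r = q := fun hq hd =>
    (Nat.prime_dvd_prime_iff_eq hr hq).1 (hr.dvd_of_dvd_pow hd)
  have key' : ∀ {q : ℕ}, q.Prime → r ∣ q → r = q := fun hq hd => (Nat.prime_dvd_prime_iff_eq hr hq).1 hd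
  simp only [Nat.Prime.dvd_mul hr] at h
  rcases h with (((((((((((((h | h) | h) | h) | h) | h) | h) | h) | h) | h) | h) | h) | h) | h) | h
  · have := key (by norm_num) h; subst this; decide
  · have := key (by norm_num) h; subst this; decide
  · have := key (by norm_num) h; subst this; decide
  · have := key (by norm_num) h; subst this; decide
  · have := key (by norm_num) h; subst this; decide
  · have := key (by norm_num) h; subst this; decide
  · have := key' (by norm_num) h; subst this; decide
  · have := key' (by norm_num) h; subst this; decide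
  · have := key' (by norm_num) h; subst this; decide
  · have := key' (by norm_num) h; subst this; decide
  · have := key' (by norm_num) h; subst this; decide
  · have := key' (by norm_num) h; subst this; decide
  · have := key' (by norm_num) h; subst this; decide
  · have := key' (by norm_num) h; subst this; decide
  · have := key' (by norm_num) h; subst this; decide

/-- the Frobenius group with its normal closure in the centralizer, in an overgroup -/
theorem hasFrobN_cent {X : Type*} [Group X] {M : Type*} [Group M] (f : M →* X)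
    (hf : Function.Injective f) {t : M} {q n m : ℕ}
    (h : HasFrobN (centralizer ({t} : Set M)) q n m) : HasFrobN (centralizer ({f t} : Set X)) q n m := by
  have hmem : ∀ y : centralizer ({t} : Set M), f y ∈ centralizer ({f t} : Set X) := by
    intro y
    rw [mem_centralizer_singleton_iff]
    have h1 := mem_centralizer_singleton_iff.1 y.2
    rw [← map_mul, h1, map_mul]
  let g : centralizer ({t} : Set M) →* centralizer ({f t} : Set X) :=
    { toFun := fun y => ⟨f y, hmem y⟩
      map_one' := Subtype.ext (by simp)
      map_mul' := fun a b => Subtype.ext (by simp) }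
  refine h.of_injective g ?_
  intro a b hab
  have h1 : f a = f b := congrArg Subtype.val hab
  exact Subtype.ext (hf h1)

/-- **The Monster is recognizable by its element orders.** -/
theorem rec_m (hN : NameHyp.{u}) {G : Type u} [Group G] [Finite G] {M : Type v} [Group M] [Finite M]
    (hM : Spor.IsoM M) (h : Same G M) : Nonempty (G ≃* M) := by
  have hfin : Finite MG := Cfsg.Agent.BpSpor.MBigModel.finite
  have hK : Cfsg.Agent.H995.CopEngine.AllKnown.{0} := fun S _ _ _ => Cfsg.Agent.H889.RecKnown.known hN S
  obtain ⟨e0⟩ := hM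
  obtain ⟨eG⟩ := Cfsg.Agent.MonsterP.Equiv.equiv
  let e1 : M ≃* MG := e0.trans eG
  have hJ : Same G MG := fun n => (h n).trans ⟨fun h => h.congr e1, fun h => h.congr e1.symm⟩
  have hno : ∀ n, ¬ HasOrd MG n → ¬ HasOrd G n := fun n hn h1 => hn ((hJ n).1 h1)
  have hi59 := MFacts.iso59 hK
  have g59 : Good MG 59 := ⟨by norm_num, by norm_num, by rw [card_M]; norm_num, hi59, 29, by decide, by norm_num,
    (hasOrd_prime (by norm_num)).2 (by rw [card_M]; norm_num), MFacts.no_two (by simp)⟩
  have h59 : Good G 59 := g59.of_same hJ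
  have hns : ¬ Group.IsSolvable G :=
    not_solvable_of_same hJ (r := 59) (s := 29) (t := 2) (by norm_num) (by norm_num) (by norm_num) (by norm_num)
      (by norm_num) (by norm_num) (by rw [card_M]; norm_num) (by rw [card_M]; norm_num)
      (by rw [card_M]; norm_num) (isolated_iff.1 hi59 29 (by norm_num) (by norm_num))
      (isolated_iff.1 hi59 2 (by norm_num) (by norm_num)) (MFacts.no_two (r := 29) (by simp))
  have h2 : 2 ∣ Nat.card G := (dvd_of_same hJ Nat.prime_two).2 (by rw [card_M]; norm_num)
  obtain ⟨X, _, _, π, S, hR⟩ := exists_red hns h2 h59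
  have R := hR 59 h59
  -- the name of `S`
  have hS := R.simple
  have h71 : ¬ 71 ∣ Nat.card π.ker := R.kill_na (by norm_num) (by norm_num) (hno _ (MFacts.no_two (by simp)))
  obtain ⟨g, hg⟩ := hN S R.nonab
  have hcX : Nat.card X ∣ Nat.card G := card_dvd_of_surjective π R.surj
  have hprimes : ∀ r, r.Prime → r ∣ Nat.card S → r ∈ [2, 3, 5, 7, 11, 13, 17, 19, 23, 29, 31, 41, 47, 59, 71] :=
    fun r hr hd => primes_M hr ((dvd_of_same hJ hr).1 ((hd.trans (card_subgroup_dvd_card S)).trans hcX))
  have hmem := mem_lstB hg (ps := [2, 3, 5, 7, 11, 13, 17, 19, 23, 29, 31, 41, 47, 59, 71]) (rs := [59]) (B := 71)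
    (N := 73) (by norm_num) (by decide) (by decide) (by norm_num) (by decide) hprimes (by
      intro r hr
      rw [List.mem_singleton] at hr
      subst hr
      exact R.dvd)
  rw [lst_m, List.mem_cons, List.mem_singleton] at hmem
  rcases hmem with rfl | rfl
  · obtain ⟨e2⟩ : Spor.IsoM S := hg.real
    let e3 : S ≃* M := e2.trans e0.symm
    let e4 : S ≃* MG := e2.trans eG
    refine finish R ?_ e3 (Or.inl ?_)
    · intro p hp hpG
      have hpl := primes_M hp ((dvd_of_same hJ hp).1 hpG)
      have hF59 : HasFrob S 59 29 := (MFacts.frob59 hK).congr e4.symm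
      have hF47 : HasFrob S 47 23 := (MFacts.frob47 hK).congr e4.symm
      let f : MG →* X := S.subtype.comp e4.symm.toMonoidHom
      have hf : Function.Injective f := S.subtype_injective.comp e4.symm.injective
      have hFN := hasFrobN_cent f hf MFacts.frobN
      have hfz : orderOf (f zz) = 2 := by
        rw [orderOf_injective f hf]
        exact Cfsg.Agent.BpSpor.MBigModel.orderOf_zz
      have key : ∀ p : ℕ, p.Prime → p ≠ 2 → p ≠ 23 → p ≠ 11 → ¬ p ∣ 11 * 95040 → ¬ p ∣ Nat.card π.ker := by
        intro p hp h2 h23 h11 hd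
        exact killN_two R hp h2 hfz (q := 23) (n := 11) (m := 11) (by norm_num) (Ne.symm h23) (by norm_num)
          (by norm_num) (Ne.symm h11) (by norm_num) hFN (hno _ (MFacts.no_22 hp.pos hd))
          (hno _ (MFacts.no_22 hp.pos hd))
      simp only [List.mem_cons, List.not_mem_nil, or_false] at hpl
      rcases hpl with rfl | rfl | rfl | rfl | rfl | rfl | rfl | rfl | rfl | rfl | rfl | rfl | rfl | rfl | rfl
      · exact R.kill' hp (by norm_num) (by norm_num) hF59 (hno _ (MFacts.no_two (r := 29) (by simp)))
      · exact MThree.no_three hK R ⟨e0⟩ ⟨e3⟩ h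
      · exact R.kill' hp (by norm_num) (by norm_num) hF59 (hno _ MFacts.no_29_5)
      · exact key 7 hp (by norm_num) (by norm_num) (by norm_num) (by norm_num)
      · exact R.kill' hp (by norm_num) (by norm_num) hF59 (hno _ MFacts.no_29_11)
      · exact key 13 hp (by norm_num) (by norm_num) (by norm_num) (by norm_num)
      · exact key 17 hp (by norm_num) (by norm_num) (by norm_num) (by norm_num)
      · exact key 19 hp (by norm_num) (by norm_num) (by norm_num) (by norm_num)
      · refine R.kill' hp (by norm_num) (by norm_num) hF47 (hno _ ?_)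
        rintro ⟨x, hx⟩
        have h3 := orderOf_dvd_natCard x
        rw [hx, card_M] at h3
        norm_num at h3
      · exact key 29 hp (by norm_num) (by norm_num) (by norm_num) (by norm_num)
      · exact key 31 hp (by norm_num) (by norm_num) (by norm_num) (by norm_num)
      · exact key 41 hp (by norm_num) (by norm_num) (by norm_num) (by norm_num)
      · exact key 47 hp (by norm_num) (by norm_num) (by norm_num) (by norm_num)
      · exact R.not_dvd
      · exact key 71 hp (by norm_num) (by norm_num) (by norm_num) (by norm_num)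
    · rw [Cfsg.Agent.H548.Crit.card_out_congr e0]
      exact Cfsg.Agent.S2085.result
  · exfalso
    have h4 : Nat.gcd 2 (59 - 1) * (59 - 1) * Nat.card S = glN 2 59 := hg.eq
    have h5 : glN 2 59 = 11908560 := by decide +kernel
    have h6 : Nat.gcd 2 (59 - 1) = 2 := by norm_num
    rw [h5, h6] at h4
    have h7 : Nat.card S = 102660 := by omega
    exact R.absurd_of h7 (r := 71) (by norm_num) ((dvd_of_same hJ (by norm_num)).2 (by rw [card_M]; norm_num)) h71
      (by decide +kernel)

end Cfsg.Agent.H314.RecM
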