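import Cfsg.Agent.H199.AbMon
import Cfsg.Agent.H58.Rec.MThree
import Cfsg.Agent.H537.CopRowsC
import Cfsg.Agent.H568.SC.Mon
import Cfsg.Agent.H314.Rec.KillN

/-!
# Recognition of the Monster by spectrum: facts about the Monster (helper314)

* `no_two` : no element of order `2 r`, `r = 29, 41, 59, 71`;
* `no_29_5`, `no_29_11` : no element of order `29 · 5`, `29 · 11`;
* `no_22` : no element of order `2 · (11 · p)` if `p ∤ 11 |M12|`;
* `frob59` : `59 : 29`, `frob47` : `47 : 23`;
* `frobN` : `23 : 11` in `C(z)`.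
-/

set_option autoImplicit false
set_option maxRecDepth 100000
set_option linter.unusedSectionVars false

namespace Cfsg.Agent.H314.RecM.MFacts

open Cfsg Cfsg.Agent.MonsterX Cfsg.Agent.MonsterX.InstData Cfsg.Agent.MonsterX.MainPack Cfsg.Agent.MonsterU
open Cfsg.Agent.MonsterP Cfsg.Agent.MonsterN Cfsg.Agent.LThreeMB
open Cfsg.Agent.MonsterX.MainBasic Cfsg.Agent.MonsterX.MainSimple Cfsg.Agent.MonsterX.Model
open Cfsg.Agent.MonsterU.Lam2 Cfsg.Agent.MonsterU.TwoCls
open Cfsg.Agent.BpSpor.MBigModel Cfsg.Agent.H199.AbMon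
open Cfsg.Spor (Co1)
open Subgroup (centralizer zpowers mem_centralizer_singleton_iff)
open Cfsg.Agent.H58.Rec

theorem pow_order {G : Type*} [Group G] {g : G} {a b : ℕ} (ha : 0 < a) (hg : orderOf g = a * b) :
    orderOf (g ^ a) = b := by
  rw [orderOf_pow_of_dvd ha.ne' (by rw [hg]; exact dvd_mul_right a b), hg, Nat.mul_div_cancel_left _ ha]

theorem dvd_cent {G : Type*} [Group G] [Finite G] (g : G) (i j : ℕ) {r : ℕ} (hr : orderOf (g ^ j) = r) :
    r ∣ Nat.card ↥(centralizer ({g ^ i} : Set G)) := by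
  have h3 : g ^ j ∈ centralizer ({g ^ i} : Set G) :=
    mem_centralizer_singleton_iff.2 (by rw [← pow_add, ← pow_add, add_comm])
  have h4 := orderOf_dvd_natCard (⟨g ^ j, h3⟩ : centralizer ({g ^ i} : Set G))
  rwa [Subgroup.orderOf_mk, hr] at h4

/-- **29, 41, 59, 71 are not adjacent to 2.** -/
theorem no_two {r : ℕ} (hr : r = 29 ∨ r = 41 ∨ r = 59 ∨ r = 71) : ¬ HasOrd MG (2 * r) := by
  rintro ⟨g, hg⟩
  have hfin := finite
  have hr0 : 0 < r := by rcases hr with rfl | rfl | rfl | rfl <;> norm_num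
  have ht : orderOf (g ^ r) = 2 := pow_order hr0 (by rw [hg, mul_comm])
  have h1 := Cfsg.Agent.H713.Spor.MOf.card_cent Cfsg.Agent.MonsterU.Uncond.all (g ^ r) ht
  have h4 := dvd_cent g r 2 (pow_order (by norm_num) hg)
  simp only [List.mem_cons, List.not_mem_nil, or_false] at h1
  rcases h1 with h1 | h1 <;> rw [h1] at h4 <;> rcases hr with rfl | rfl | rfl | rfl <;> norm_num at h4

theorem no_pr {p r : ℕ} (hp : 0 < p) (hr : 0 < r)
    (h : ∀ x : MG, orderOf x = p → ¬ r ∣ Nat.card ↥(centralizer ({x} : Set MG))) : ¬ HasOrd MG (r * p) := by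
  rintro ⟨g, hg⟩
  have hfin := finite
  exact h _ (pow_order hr hg) (dvd_cent g r p (pow_order hp (by rw [hg, mul_comm])))

theorem no_29_5 : ¬ HasOrd MG (29 * 5) :=
  no_pr (by norm_num) (by norm_num) fun _ hx => five_not_dvd' (by simp) hx

theorem no_29_11 : ¬ HasOrd MG (29 * 11) :=
  no_pr (by norm_num) (by norm_num) fun _ hx => eleven_not_dvd (by simp) hx

/-- **No element of order `22 p`.** -/
theorem no_22 {p : ℕ} (hp : 0 < p) (hd : ¬ p ∣ 11 * 95040) : ¬ HasOrd MG (2 * (11 * p)) := by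
  rintro ⟨g, hg⟩
  have hfin := finite
  have hx : orderOf (g ^ (2 * p)) = 11 := pow_order (by omega) (by rw [hg]; ring)
  have hv : orderOf (g ^ (11 * p)) = 2 := pow_order (by omega) (by rw [hg]; ring)
  have hw : orderOf (g ^ 22) = p := pow_order (by norm_num) (by rw [hg]; ring)
  have h1 := eleven hx (Cfsg.Agent.BpSpor.MBigEleven.comm_z hx hv (by rw [← pow_add, ← pow_add, add_comm]))
  have h4 := dvd_cent g (2 * p) 22 hw
  rw [h1] at h4
  exact hd h4

/-- **59 is isolated.** -/
theorem iso59 (hK : Cfsg.Agent.H995.CopEngine.AllKnown.{0}) : Cfsg.Agent.H455.Isolated.Isolated MG 59 := by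
  have hfin := finite
  exact isolated_of_sc (by norm_num) (Cfsg.Agent.H568.SC.Mon.sc_model hK)

/-- **The Frobenius group `59 : 29`.** -/
theorem frob59 (hK : Cfsg.Agent.H995.CopEngine.AllKnown.{0}) : HasFrob MG 59 29 := by
  have hfin := finite
  exact hasFrob_of_isolated (by norm_num) card_M (iso59 hK) (by norm_num) (by norm_num) (by norm_num)
    (by decide +kernel)

/-- **The Frobenius group `47 : 23`.** -/
theorem frob47 (hK : Cfsg.Agent.H995.CopEngine.AllKnown.{0}) : HasFrob MG 47 23 := by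
  obtain ⟨t, -, ht⟩ := Cfsg.Agent.H58.Rec.MThree.exists_frob hK
  exact ht.of_subgroup

theorem card_Co1 : Nat.card Spor.Co1 = 4157776806543360000 := Cfsg.Agent.S0399.result.2

theorem card_ker_pi : Nat.card ↥pi.ker = 2 ^ 25 := by
  have hfin := finite
  have h3 := Subgroup.card_eq_card_quotient_mul_card_subgroup pi.ker
  rw [Nat.card_congr (QuotientGroup.quotientKerEquivOfSurjective pi chart.pi_surj).toEquiv, card_cent_z, card_Co1] at h3
  have h4 : (2 ^ 25 : ℕ) * 4157776806543360000 = Nat.card ↥pi.ker * 4157776806543360000 := by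
    rw [h3, mul_comm]
  exact (Nat.eq_of_mul_eq_mul_right (by norm_num) h4).symm

/-- **The Frobenius group `23 : 11` in `C(z)`.** -/
theorem frobN : HasFrobN (centralizer ({zz} : Set MG)) 23 11 11 := by
  have hfin := finite
  have hfc : Finite Spor.Co1 := Nat.finite_of_card_ne_zero (by rw [card_Co1]; norm_num)
  have hsc := Cfsg.Agent.H537.Cop.co1_23 (G := Spor.Co1) ⟨MulEquiv.refl _⟩
  have hF : HasFrob Spor.Co1 23 11 := hasFrob_of_isolated (by norm_num) card_Co1 (isolated_of_sc (by norm_num) hsc)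
    (by norm_num) (by norm_num) (by norm_num) (by decide +kernel)
  have hL : HasFrob (centralizer ({zz} : Set MG)) 23 11 :=
    HasFrob.lift (τ := pi) chart.pi_surj (by norm_num) (by rw [card_ker_pi]; norm_num)
      (by rw [card_ker_pi]; norm_num) hF
  refine HasFrobN.of_hasFrob hL fun N hN T hTN hT hT1 => ?_
  have hs : IsSimpleGroup Spor.Co1 := Cfsg.Agent.S0399.result.1
  have hNm : (N.map pi).Normal := hN.map pi chart.pi_surj
  rcases hs.eq_bot_or_eq_top_of_normal _ hNm with h1 | h1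
  · exfalso
    have h2 : T ≤ pi.ker := hTN.trans ((Subgroup.map_eq_bot_iff _).1 h1)
    have h3 : Nat.card T ∣ 2 ^ 25 := card_ker_pi ▸ Subgroup.card_dvd_of_le h2
    have hf23 : Fact (Nat.Prime 23) := ⟨by norm_num⟩
    obtain ⟨k, hk⟩ := IsPGroup.iff_card.1 hT
    rw [hk] at h3
    rcases Nat.eq_zero_or_pos k with h4 | h4
    · rw [h4, pow_zero, Subgroup.card_eq_one] at hk
      exact hT1 hk
    · have h5 : 23 ∣ 2 ^ 25 := (dvd_pow_self 23 h4.ne').trans h3
      norm_num at h5
  · have h2 : 11 ∣ Nat.card N := by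
      have h3 : Nat.card (N.map pi) ∣ Nat.card N := Subgroup.card_map_dvd N pi
      rw [h1, Subgroup.card_top, card_Co1] at h3
      exact (by norm_num : 11 ∣ 4157776806543360000).trans h3
    have hf11 : Fact (Nat.Prime 11) := ⟨by norm_num⟩
    obtain ⟨s, hs⟩ := exists_prime_orderOf_dvd_card' 11 h2
    exact ⟨s, s.2, by rw [Subgroup.orderOf_coe, hs]⟩

end Cfsg.Agent.H314.RecM.MFacts
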